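import Mathlib

/-! Field extensions of perfect fields are formally smooth; Artinian local formally smooth algebras. -/

set_option autoImplicit false
universe u v

open MvPolynomial TensorProduct

namespace Groth.Agent.FSField

/-- Formal smoothness of a field extension can be checked on finitely generated subextensions. -/
theorem formallySmooth_of_forall_finset (F : Type v) (K : Type u) [Field F] [Field K] [Algebra F K]
    (hfg : ∀ s : Finset K, Algebra.FormallySmooth F (IntermediateField.adjoin F (s : Set K))) :
    Algebra.FormallySmooth F K := by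
  classical
  refine ⟨inferInstance, subsingleton_of_forall_eq 0 fun x => ?_⟩
  apply Subtype.ext
  obtain ⟨⟨p, hp⟩, hpx⟩ := Algebra.Extension.Cotangent.mk_surjective x.1
  let L : IntermediateField F K := IntermediateField.adjoin F ((MvPolynomial.vars (p : MvPolynomial K F) : Finset K) : Set K)
  haveI : Algebra.FormallySmooth F L := hfg _
  obtain ⟨q, hq⟩ := MvPolynomial.exists_rename_eq_of_vars_subset_range (τ := L) (p : MvPolynomial K F)
    Subtype.val Subtype.val_injective (by
      intro z hz
      exact ⟨⟨z, IntermediateField.subset_adjoin F _ hz⟩, rfl⟩)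
  have haev : ∀ r : MvPolynomial L F, MvPolynomial.aeval (id : K → K) (rename Subtype.val r) =
      ((MvPolynomial.aeval (id : L → L) r : L) : K) := fun r => by
    rw [aeval_rename]
    exact ((MvPolynomial.comp_aeval_apply (id : L → L) L.val r)).symm
  let P := (Algebra.Generators.self F L).toExtension
  have hqk : q ∈ P.ker := by
    show MvPolynomial.aeval (id : L → L) q = 0
    have hp' : MvPolynomial.aeval (id : K → K) (p : MvPolynomial K F) = 0 := hp
    rw [← hq, haev] at hp'
    exact Subtype.ext hp'
  have hdx : ∀ i : K, MvPolynomial.aeval (id : K → K) (pderiv i (p : MvPolynomial K F)) = 0 := fun i => by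
    have h0 : (Algebra.Generators.self F K).toExtension.cotangentComplex (Algebra.Extension.Cotangent.mk ⟨p, hp⟩) = 0 := by
      rw [hpx]; exact x.2
    have h1 := congr((Algebra.Generators.self F K).cotangentSpaceBasis.repr $h0 i)
    rw [Algebra.Extension.cotangentComplex_mk] at h1
    erw [Algebra.Generators.cotangentSpaceBasis_repr_tmul, one_mul, map_zero] at h1
    exact h1
  let y : P.Cotangent := Algebra.Extension.Cotangent.mk ⟨q, hqk⟩
  have hy : P.cotangentComplex y = 0 := by
    refine (Algebra.Generators.self F L).cotangentSpaceBasis.repr.injective (Finsupp.ext fun j => ?_)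
    rw [Algebra.Extension.cotangentComplex_mk]
    erw [Algebra.Generators.cotangentSpaceBasis_repr_tmul, one_mul, map_zero]
    apply Subtype.ext
    have := hdx j.1
    rw [← hq, pderiv_rename Subtype.val_injective, haev] at this
    exact this
  haveI := Algebra.FormallySmooth.subsingleton_h1Cotangent (R := F) (A := L)
  have hy0 : y = 0 := congrArg Subtype.val (Subsingleton.elim (α := Algebra.H1Cotangent F L) ⟨y, hy⟩ 0)
  rw [Algebra.Extension.Cotangent.mk_eq_zero_iff] at hy0
  rw [← hpx]
  refine (Algebra.Extension.Cotangent.mk_eq_zero_iff _).mpr ?_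
  show (p : MvPolynomial K F) ∈ _
  rw [← hq]
  have hle : Ideal.map (rename (R := F) (Subtype.val : L → K)) P.ker ≤ (Algebra.Generators.self F K).toExtension.ker := by
    rw [Ideal.map_le_iff_le_comap]
    intro r hr
    show MvPolynomial.aeval (id : K → K) (rename Subtype.val r) = 0
    rw [haev]
    exact congrArg Subtype.val hr
  exact Ideal.pow_right_mono hle 2 (Ideal.map_pow (rename (R := F) (Subtype.val : L → K)) P.ker 2 ▸ Ideal.mem_map_of_mem _ hy0)

/-- Any field extension of a perfect field is formally smooth. -/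
theorem formallySmooth_of_perfectField (F : Type v) (K : Type u) [Field F] [Field K] [Algebra F K]
    [PerfectField F] : Algebra.FormallySmooth F K :=
  formallySmooth_of_forall_finset F K fun s => by
    haveI : Algebra.EssFiniteType F (IntermediateField.adjoin F (s : Set K)) :=
      IntermediateField.essFiniteType_iff.mpr (IntermediateField.fg_adjoin_finset _)
    exact Algebra.FormallySmooth.of_perfectField

open IsLocalRing in
/-- An Artinian local ring formally smooth over a perfect field is a field. -/
theorem maximalIdeal_eq_bot (F : Type v) (R : Type u) [Field F] [PerfectField F] [CommRing R] [IsLocalRing R]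
    [IsArtinianRing R] [Algebra F R] [Algebra.FormallySmooth F R] : maximalIdeal R = ⊥ := by
  classical
  let K := ResidueField R
  haveI := formallySmooth_of_perfectField F K
  have hnil : IsNilpotent (maximalIdeal R) := by
    have := IsArtinianRing.isNilpotent_jacobson_bot (R := R)
    rwa [jacobson_eq_maximalIdeal ⊥ bot_ne_top] at this
  obtain ⟨N, hN⟩ := hnil
  let res : R →ₐ[F] K := IsScalarTower.toAlgHom F R K
  have hres : Function.Surjective res := residue_surjective
  have hkerres : RingHom.ker (res : R →+* K) = maximalIdeal R := ker_residue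
  let σ : K →ₐ[F] R := Algebra.FormallySmooth.liftOfSurjective (AlgHom.id F K) res hres (hkerres ▸ ⟨N, hN⟩)
  have hσ : ∀ z, res (σ z) = z := fun z => Algebra.FormallySmooth.liftOfSurjective_apply _ res hres _ z
  by_contra hne
  have hsq : maximalIdeal R ^ 2 ≠ maximalIdeal R := fun h => hne <|
    Submodule.eq_bot_of_le_smul_of_le_jacobson_bot (maximalIdeal R) _ (IsNoetherian.noetherian _)
      (by rw [smul_eq_mul, ← pow_two, h]) (jacobson_eq_maximalIdeal ⊥ bot_ne_top).ge
  let b := Module.finBasis K (CotangentSpace R)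
  let e := Module.finrank K (CotangentSpace R)
  choose t ht using fun i => (maximalIdeal R).toCotangent_surjective (b i)
  have he : Nonempty (Fin e) := by
    by_contra h
    rw [not_nonempty_iff] at h
    haveI : Subsingleton (CotangentSpace R) := b.repr.toEquiv.subsingleton
    refine hsq (le_antisymm (Ideal.pow_le_self two_ne_zero) fun z hz => ?_)
    exact (Ideal.toCotangent_eq_zero _ ⟨z, hz⟩).mp (Subsingleton.elim _ _)
  let Q := MvPolynomial (Fin e) K
  let T : Ideal Q := MvPolynomial.idealOfVars (Fin e) K
  let m : Q →ₐ[F] R := { (MvPolynomial.eval₂Hom σ.toRingHom fun i => (t i : R)) with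
    commutes' := fun r => by
      show MvPolynomial.eval₂Hom σ.toRingHom (fun i => (t i : R)) (algebraMap F Q r) = _
      rw [IsScalarTower.algebraMap_apply F K Q, MvPolynomial.algebraMap_eq, MvPolynomial.eval₂Hom_C]
      exact σ.commutes r }
  have hmC : ∀ z, m (C z) = σ z := fun z => MvPolynomial.eval₂Hom_C _ _ z
  have hmX : ∀ i, m (X i) = (t i : R) := fun i => MvPolynomial.eval₂Hom_X' _ _ i
  have hspan : maximalIdeal R = Ideal.span (Set.range fun i => (t i : R)) := by
    refine le_antisymm ?_ (Ideal.span_le.mpr (by rintro _ ⟨i, rfl⟩; exact (t i).2))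
    refine Submodule.le_of_le_smul_of_le_jacobson_bot (IsNoetherian.noetherian _)
      (jacobson_eq_maximalIdeal ⊥ bot_ne_top).ge fun z hz => ?_
    have hsum := b.sum_repr ((maximalIdeal R).toCotangent ⟨z, hz⟩)
    choose l hl using fun i => hres (b.repr ((maximalIdeal R).toCotangent ⟨z, hz⟩) i)
    have h2 : (maximalIdeal R).toCotangent (∑ i, l i • t i) = (maximalIdeal R).toCotangent ⟨z, hz⟩ := by
      rw [map_sum]
      conv_rhs => rw [← hsum]
      refine Finset.sum_congr rfl fun i _ => ?_
      rw [map_smul, ht, ← hl i]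
      exact (IsScalarTower.algebraMap_smul K (l i) (b i)).symm
    rw [(maximalIdeal R).toCotangent_eq] at h2
    have h3 : z = (∑ i, l i • t i : maximalIdeal R).1 - ((∑ i, l i • t i : maximalIdeal R).1 - z) := by ring
    rw [h3]
    refine sub_mem (Submodule.mem_sup_left ?_) (Submodule.mem_sup_right (by rw [smul_eq_mul, ← pow_two]; exact h2))
    rw [Submodule.coe_sum]
    exact sum_mem fun i _ => Submodule.smul_mem _ (l i) (Ideal.subset_span ⟨i, rfl⟩)
  have hmT : T.map m = maximalIdeal R := by
    rw [hspan, show T = Ideal.span (Set.range (X : Fin e → Q)) from rfl, Ideal.map_span, ← Set.range_comp]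
    exact congrArg Ideal.span (congrArg Set.range (funext hmX))
  have hTm : ∀ p ∈ T, m p ∈ maximalIdeal R := fun p hp => hmT ▸ Ideal.mem_map_of_mem _ hp
  have hconst : ∀ p : Q, p - C (constantCoeff p) ∈ T := fun p => by
    have h := MvPolynomial.mem_pow_idealOfVars_iff' 1 (p - C (constantCoeff p))
    rw [pow_one] at h
    refine h.mpr fun x hx => ?_
    obtain rfl : x = 0 := (Finsupp.degree_eq_zero_iff x).mp (by omega)
    show coeff 0 (p - C (constantCoeff p)) = 0
    rw [coeff_sub, coeff_zero_C, constantCoeff_eq, sub_self]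
  have hsurj : Function.Surjective m := by
    have key : ∀ n, ∀ z : R, ∃ p, z - m p ∈ maximalIdeal R ^ n := by
      intro n
      induction n with
      | zero => exact fun z => ⟨0, by simp⟩
      | succ n ih =>
        intro z
        obtain ⟨p, hp⟩ := ih z
        rw [← hmT, ← Ideal.map_pow] at hp
        have : ∀ w ∈ (T ^ n).map m, ∃ q, w - m q ∈ maximalIdeal R ^ (n + 1) := by
          intro w hw
          refine Submodule.span_induction ?_ ⟨0, by simp⟩ (fun a c _ _ ⟨qa, ha⟩ ⟨qc, hc⟩ => ⟨qa + qc, by
            rw [map_add]; convert add_mem ha hc using 1; ring⟩) (fun r a ha' ⟨qa, ha⟩ => ?_) hw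
          · rintro _ ⟨q, _, rfl⟩; exact ⟨q, by simp⟩
          · refine ⟨C (res r) * qa, ?_⟩
            have hr : r - σ (res r) ∈ maximalIdeal R := by
              rw [← hkerres, RingHom.mem_ker]
              simp [hσ]
            have han : a ∈ maximalIdeal R ^ n := by
              rw [← hmT, ← Ideal.map_pow]
              exact ha'
            have : r • a - m (C (res r) * qa) = (r - σ (res r)) * a + σ (res r) * (a - m qa) := by
              rw [map_mul, hmC, smul_eq_mul]; ring
            rw [this]
            exact add_mem (pow_succ' (maximalIdeal R) n ▸ Ideal.mul_mem_mul hr han) (Ideal.mul_mem_left _ _ ha)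
        obtain ⟨q, hq⟩ := this _ hp
        exact ⟨p + q, by rw [map_add]; convert hq using 1; ring⟩
    intro z
    obtain ⟨p, hp⟩ := key N z
    rw [hN] at hp
    exact ⟨p, (sub_eq_zero.mp (Submodule.mem_bot R |>.mp hp)).symm⟩
  let I : Ideal Q := RingHom.ker (m : Q →+* R)
  have hIT : ∀ p : Q, m p ∈ maximalIdeal R ^ 2 → p ∈ T ^ 2 := by
    intro p hp
    have hc : constantCoeff p = 0 := by
      have h1 : res (m p) = constantCoeff p := by
        have h2 : res (m (p - C (constantCoeff p))) = 0 := by
          rw [← AlgHom.coe_toRingHom, ← RingHom.mem_ker, hkerres]; exact hTm _ (hconst p)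
        rwa [map_sub, map_sub, hmC, hσ, sub_eq_zero] at h2
      rw [← h1, ← AlgHom.coe_toRingHom, ← RingHom.mem_ker, hkerres]
      exact Ideal.pow_le_self two_ne_zero hp
    have hpT : p ∈ T := by simpa [hc] using hconst p
    obtain ⟨c, rfl⟩ := (Ideal.mem_span_range_iff_exists_fun).mp hpT
    have h1 : ∑ i, (res (m (c i))) • b i = 0 := by
      have : (maximalIdeal R).toCotangent (∑ i, m (c i) • t i) = 0 := by
        rw [Ideal.toCotangent_eq_zero, Submodule.coe_sum]
        convert hp using 1
        simp [map_sum, map_mul, hmX, smul_eq_mul]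
      rw [map_sum] at this
      refine (Finset.sum_congr rfl fun i _ => ?_).trans this
      rw [map_smul, ht]
      exact IsScalarTower.algebraMap_smul K (m (c i)) (b i)
    have h2 := Fintype.linearIndependent_iff.mp b.linearIndependent _ h1
    refine sum_mem fun i _ => ?_
    rw [pow_two]
    refine Ideal.mul_mem_mul ?_ (Ideal.subset_span ⟨i, rfl⟩)
    have hci : constantCoeff (c i) = 0 := by
      have h3 : res (m (c i - C (constantCoeff (c i)))) = 0 := by
        rw [← AlgHom.coe_toRingHom, ← RingHom.mem_ker, hkerres]; exact hTm _ (hconst _)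
      rw [map_sub, map_sub, h2 i, hmC, hσ] at h3
      simpa using h3
    simpa [hci] using hconst (c i)
  have hI2 : I ≤ T ^ 2 := fun p hp => hIT p (by rw [show m p = 0 from hp]; exact zero_mem _)
  -- section modulo the square of the kernel
  let J : Ideal Q := T ^ (N + 1) ⊔ I ^ 2
  have hNI : T ^ N ≤ I := fun p hp => by
    show m p = 0
    have := Ideal.mem_map_of_mem m hp
    rw [Ideal.map_pow, hmT, hN] at this
    simpa using this
  have hJI : J ≤ I := sup_le ((Ideal.pow_le_pow_right (Nat.le_succ N)).trans hNI) (Ideal.pow_le_self two_ne_zero)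
  let π : (Q ⧸ J) →ₐ[F] R := Ideal.Quotient.liftₐ J m hJI
  have hπ : Function.Surjective π := fun z => by
    obtain ⟨p, hp⟩ := hsurj z
    exact ⟨Ideal.Quotient.mk J p, hp⟩
  have hπnil : IsNilpotent (RingHom.ker (π : (Q ⧸ J) →+* R)) := by
    refine ⟨2, ?_⟩
    have : RingHom.ker (π : (Q ⧸ J) →+* R) = I.map (Ideal.Quotient.mk J) := Ideal.ker_quotient_lift _ hJI
    rw [this, ← Ideal.map_pow, Ideal.zero_eq_bot, Ideal.map_eq_bot_iff_le_ker, Ideal.mk_ker]
    exact le_sup_right
  let g : R →ₐ[F] Q ⧸ J := Algebra.FormallySmooth.liftOfSurjective (AlgHom.id F R) π hπ hπnil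
  have hg : ∀ z, π (g z) = z := fun z => Algebra.FormallySmooth.liftOfSurjective_apply _ π hπ _ z
  let T' : Ideal (Q ⧸ J) := T.map (Ideal.Quotient.mk J)
  have hd : ∀ y : Q ⧸ J, y - g (π y) ∈ T' ^ 2 := fun y => by
    obtain ⟨p, rfl⟩ := Ideal.Quotient.mk_surjective y
    obtain ⟨q, hq⟩ := Ideal.Quotient.mk_surjective (g (π (Ideal.Quotient.mk J p)))
    rw [← hq, ← map_sub, ← Ideal.map_pow]
    refine Ideal.mem_map_of_mem _ (hI2 ?_)
    show m (p - q) = 0
    rw [map_sub, sub_eq_zero]
    have := congrArg π hq
    rw [hg] at this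
    exact this.symm
  have hgT : ∀ y ∈ T', g (π y) ∈ T' := fun y hy => by
    simpa using sub_mem hy (Ideal.pow_le_self two_ne_zero (hd y))
  have key : ∀ j, ∀ a ∈ T' ^ j, ∃ z, g z ∈ T' ^ j ∧ a - g z ∈ T' ^ (j + 1) := by
    intro j
    induction j with
    | zero =>
      exact fun a _ => ⟨π a, by simp, by simpa using Ideal.pow_le_self two_ne_zero (hd a)⟩
    | succ j ih =>
      intro a ha
      rw [pow_succ] at ha
      have hp1 : ∀ n, T' ^ n * T' ≤ T' ^ (n + 1) := fun n => (pow_succ T' n).ge
      have hp2 : T' ^ j * T' ^ 2 ≤ T' ^ (j + 1 + 1) := (pow_add T' j 2).ge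
      refine Submodule.mul_induction_on (C := fun a => ∃ z, g z ∈ T' ^ (j + 1) ∧ a - g z ∈ T' ^ (j + 1 + 1)) ha
        (fun u hu w hw => ?_) (fun u w ⟨z, hz, hz'⟩ ⟨z', hz1, hz2⟩ => ⟨z + z', by rw [map_add]; exact add_mem hz hz1,
          by rw [map_add]; convert add_mem hz' hz2 using 1; ring⟩)
      obtain ⟨z, hz, hz'⟩ := ih u hu
      refine ⟨z * π w, by rw [map_mul]; exact hp1 _ (Ideal.mul_mem_mul hz (hgT w hw)), ?_⟩
      have : u * w - g (z * π w) = (u - g z) * w + g z * (w - g (π w)) := by rw [map_mul]; ring
      rw [this]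
      exact add_mem (hp1 _ (Ideal.mul_mem_mul hz' hw)) (hp2 (Ideal.mul_mem_mul hz (hd w)))
  have hTN : T' ^ (N + 1) = ⊥ := by
    rw [← Ideal.map_pow, Ideal.map_eq_bot_iff_le_ker, Ideal.mk_ker]; exact le_sup_left
  have hgs : ∀ k j, j + k = N + 1 → ∀ a ∈ T' ^ j, a ∈ g.range := by
    intro k
    induction k with
    | zero =>
      intro j hj a ha
      rw [show j = N + 1 by omega, hTN] at ha
      simp [Submodule.mem_bot _ |>.mp ha]
    | succ k ih =>
      intro j hj a ha
      obtain ⟨z, -, hz⟩ := key j a ha
      obtain ⟨z', hz'⟩ := ih (j + 1) (by omega) _ hz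
      exact ⟨z + z', by
        show g (z + z') = a
        rw [map_add, show g z' = a - g z from hz']; ring⟩
  have hIJ : I ≤ J := by
    intro p hp
    obtain ⟨z, hz⟩ := hgs (N + 1) 0 (by simp) (Ideal.Quotient.mk J p) (by simp)
    have hz0 : z = 0 := by
      rw [← hg z, show g z = Ideal.Quotient.mk J p from hz]; exact hp
    rw [hz0] at hz
    exact Ideal.Quotient.eq_zero_iff_mem.mp (hz.symm.trans (map_zero g))
  have hI : ∀ k, I ≤ T ^ k ⊔ T ^ (N + 1) := by
    intro k
    induction k with
    | zero => simp
    | succ k ih =>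
      refine hIJ.trans (sup_le le_sup_right ?_)
      rw [pow_two]
      refine (Ideal.mul_mono hI2 ih).trans ?_
      rw [Ideal.mul_sup, ← pow_add, ← pow_add]
      exact sup_le_sup (Ideal.pow_le_pow_right (by omega)) (Ideal.pow_le_pow_right (by omega))
  obtain ⟨i⟩ := he
  have hmem := hI (N + 1) (hNI (Ideal.pow_mem_pow (Ideal.subset_span ⟨i, rfl⟩ : (X i : Q) ∈ T) N))
  rw [sup_idem, MvPolynomial.X_pow_eq_monomial, MvPolynomial.monomial_mem_pow_idealOfVars_iff _ _ one_ne_zero] at hmem
  simp at hmem

end Groth.Agent.FSField
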